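import Cfsg.Agent.H29.CosetCert.SuzU.Steps0
import Cfsg.Agent.H29.CosetCert.SuzU.Steps1
import Cfsg.Agent.H29.CosetCert.SuzU.Steps2
import Cfsg.Agent.H29.CosetCert.SuzU.Steps3
import Cfsg.Agent.H29.CosetCert.SuzU.Steps4
import Cfsg.Agent.H29.CosetCert.SuzU.Steps5
import Cfsg.Agent.H29.CosetCert.SuzU.Steps6
import Cfsg.Agent.H29.CosetCert.SuzU.Steps7
import Cfsg.Agent.H29.CosetCert.SuzU.Steps8
import Cfsg.Agent.H29.CosetCert.SuzU.Steps9
import Cfsg.Agent.H29.CosetCert.SuzU.Steps10
import Cfsg.Agent.H29.CosetCert.SuzU.Steps11
import Cfsg.Agent.H29.CosetCert.SuzU.Steps12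
import Cfsg.Agent.H29.CosetCert.SuzU.Steps13
import Cfsg.Agent.H29.CosetCert.SuzU.Steps14
import Cfsg.Agent.H29.CosetCert.SuzU.Steps15
import Cfsg.Agent.H29.CosetCert.SuzU.Steps16
import Cfsg.Agent.H29.CosetCert.SuzU.Steps17
import Cfsg.Agent.H29.CosetCert.SuzU.Steps18
import Cfsg.Agent.H29.CosetCert.SuzU.Steps19
import Cfsg.Agent.H29.CosetCert.SuzU.Steps20
import Cfsg.Agent.H29.CosetCert.SuzU.Steps21
import Cfsg.Agent.H29.CosetCert.Sound

/-! Certificate data for SuzU, produced by a coset enumeration outside Lean and checked here. -/

set_option autoImplicit false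
set_option maxRecDepth 16000
set_option Elab.async false

namespace H29.CosetCert.SuzUData

open H29.CosetCert

theorem deds : ∀ k, nd ≤ k → k < N → ∃ s, chkDed F R S k s = true := by
  intro k h1 h2
  unfold nd at h1
  unfold N at h2
  by_cases c0 : k < 35832
  · exact chkList_get F R S st0 35576 st0_ok.1 k (by omega) (by rw [st0_ok.2]; omega)
  by_cases c1 : k < 36088
  · exact chkList_get F R S st1 35832 st1_ok.1 k (by omega) (by rw [st1_ok.2]; omega)
  by_cases c2 : k < 36344
  · exact chkList_get F R S st2 36088 st2_ok.1 k (by omega) (by rw [st2_ok.2]; omega)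
  by_cases c3 : k < 36600
  · exact chkList_get F R S st3 36344 st3_ok.1 k (by omega) (by rw [st3_ok.2]; omega)
  by_cases c4 : k < 36856
  · exact chkList_get F R S st4 36600 st4_ok.1 k (by omega) (by rw [st4_ok.2]; omega)
  by_cases c5 : k < 37112
  · exact chkList_get F R S st5 36856 st5_ok.1 k (by omega) (by rw [st5_ok.2]; omega)
  by_cases c6 : k < 37368
  · exact chkList_get F R S st6 37112 st6_ok.1 k (by omega) (by rw [st6_ok.2]; omega)
  by_cases c7 : k < 37624
  · exact chkList_get F R S st7 37368 st7_ok.1 k (by omega) (by rw [st7_ok.2]; omega)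
  by_cases c8 : k < 37880
  · exact chkList_get F R S st8 37624 st8_ok.1 k (by omega) (by rw [st8_ok.2]; omega)
  by_cases c9 : k < 38136
  · exact chkList_get F R S st9 37880 st9_ok.1 k (by omega) (by rw [st9_ok.2]; omega)
  by_cases c10 : k < 38392
  · exact chkList_get F R S st10 38136 st10_ok.1 k (by omega) (by rw [st10_ok.2]; omega)
  by_cases c11 : k < 38648
  · exact chkList_get F R S st11 38392 st11_ok.1 k (by omega) (by rw [st11_ok.2]; omega)
  by_cases c12 : k < 38904
  · exact chkList_get F R S st12 38648 st12_ok.1 k (by omega) (by rw [st12_ok.2]; omega)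
  by_cases c13 : k < 39160
  · exact chkList_get F R S st13 38904 st13_ok.1 k (by omega) (by rw [st13_ok.2]; omega)
  by_cases c14 : k < 39416
  · exact chkList_get F R S st14 39160 st14_ok.1 k (by omega) (by rw [st14_ok.2]; omega)
  by_cases c15 : k < 39672
  · exact chkList_get F R S st15 39416 st15_ok.1 k (by omega) (by rw [st15_ok.2]; omega)
  by_cases c16 : k < 39928
  · exact chkList_get F R S st16 39672 st16_ok.1 k (by omega) (by rw [st16_ok.2]; omega)
  by_cases c17 : k < 40184
  · exact chkList_get F R S st17 39928 st17_ok.1 k (by omega) (by rw [st17_ok.2]; omega)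
  by_cases c18 : k < 40440
  · exact chkList_get F R S st18 40184 st18_ok.1 k (by omega) (by rw [st18_ok.2]; omega)
  by_cases c19 : k < 40696
  · exact chkList_get F R S st19 40440 st19_ok.1 k (by omega) (by rw [st19_ok.2]; omega)
  by_cases c20 : k < 40952
  · exact chkList_get F R S st20 40696 st20_ok.1 k (by omega) (by rw [st20_ok.2]; omega)
  by_cases c21 : k < 41208
  · exact chkList_get F R S st21 40952 st21_ok.1 k (by omega) (by rw [st21_ok.2]; omega)
  by_cases c22 : k < 41464
  · exact chkList_get F R S st22 41208 st22_ok.1 k (by omega) (by rw [st22_ok.2]; omega)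
  by_cases c23 : k < 41720
  · exact chkList_get F R S st23 41464 st23_ok.1 k (by omega) (by rw [st23_ok.2]; omega)
  by_cases c24 : k < 41976
  · exact chkList_get F R S st24 41720 st24_ok.1 k (by omega) (by rw [st24_ok.2]; omega)
  by_cases c25 : k < 42232
  · exact chkList_get F R S st25 41976 st25_ok.1 k (by omega) (by rw [st25_ok.2]; omega)
  by_cases c26 : k < 42488
  · exact chkList_get F R S st26 42232 st26_ok.1 k (by omega) (by rw [st26_ok.2]; omega)
  by_cases c27 : k < 42744
  · exact chkList_get F R S st27 42488 st27_ok.1 k (by omega) (by rw [st27_ok.2]; omega)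
  by_cases c28 : k < 43000
  · exact chkList_get F R S st28 42744 st28_ok.1 k (by omega) (by rw [st28_ok.2]; omega)
  by_cases c29 : k < 43256
  · exact chkList_get F R S st29 43000 st29_ok.1 k (by omega) (by rw [st29_ok.2]; omega)
  by_cases c30 : k < 43512
  · exact chkList_get F R S st30 43256 st30_ok.1 k (by omega) (by rw [st30_ok.2]; omega)
  by_cases c31 : k < 43768
  · exact chkList_get F R S st31 43512 st31_ok.1 k (by omega) (by rw [st31_ok.2]; omega)
  by_cases c32 : k < 44024
  · exact chkList_get F R S st32 43768 st32_ok.1 k (by omega) (by rw [st32_ok.2]; omega)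
  by_cases c33 : k < 44280
  · exact chkList_get F R S st33 44024 st33_ok.1 k (by omega) (by rw [st33_ok.2]; omega)
  by_cases c34 : k < 44536
  · exact chkList_get F R S st34 44280 st34_ok.1 k (by omega) (by rw [st34_ok.2]; omega)
  by_cases c35 : k < 44792
  · exact chkList_get F R S st35 44536 st35_ok.1 k (by omega) (by rw [st35_ok.2]; omega)
  by_cases c36 : k < 45048
  · exact chkList_get F R S st36 44792 st36_ok.1 k (by omega) (by rw [st36_ok.2]; omega)
  by_cases c37 : k < 45304
  · exact chkList_get F R S st37 45048 st37_ok.1 k (by omega) (by rw [st37_ok.2]; omega)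
  by_cases c38 : k < 45560
  · exact chkList_get F R S st38 45304 st38_ok.1 k (by omega) (by rw [st38_ok.2]; omega)
  by_cases c39 : k < 45816
  · exact chkList_get F R S st39 45560 st39_ok.1 k (by omega) (by rw [st39_ok.2]; omega)
  by_cases c40 : k < 46072
  · exact chkList_get F R S st40 45816 st40_ok.1 k (by omega) (by rw [st40_ok.2]; omega)
  by_cases c41 : k < 46328
  · exact chkList_get F R S st41 46072 st41_ok.1 k (by omega) (by rw [st41_ok.2]; omega)
  by_cases c42 : k < 46584
  · exact chkList_get F R S st42 46328 st42_ok.1 k (by omega) (by rw [st42_ok.2]; omega)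
  by_cases c43 : k < 46840
  · exact chkList_get F R S st43 46584 st43_ok.1 k (by omega) (by rw [st43_ok.2]; omega)
  by_cases c44 : k < 47096
  · exact chkList_get F R S st44 46840 st44_ok.1 k (by omega) (by rw [st44_ok.2]; omega)
  by_cases c45 : k < 47352
  · exact chkList_get F R S st45 47096 st45_ok.1 k (by omega) (by rw [st45_ok.2]; omega)
  by_cases c46 : k < 47608
  · exact chkList_get F R S st46 47352 st46_ok.1 k (by omega) (by rw [st46_ok.2]; omega)
  by_cases c47 : k < 47864
  · exact chkList_get F R S st47 47608 st47_ok.1 k (by omega) (by rw [st47_ok.2]; omega)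
  by_cases c48 : k < 48120
  · exact chkList_get F R S st48 47864 st48_ok.1 k (by omega) (by rw [st48_ok.2]; omega)
  by_cases c49 : k < 48376
  · exact chkList_get F R S st49 48120 st49_ok.1 k (by omega) (by rw [st49_ok.2]; omega)
  by_cases c50 : k < 48632
  · exact chkList_get F R S st50 48376 st50_ok.1 k (by omega) (by rw [st50_ok.2]; omega)
  by_cases c51 : k < 48888
  · exact chkList_get F R S st51 48632 st51_ok.1 k (by omega) (by rw [st51_ok.2]; omega)
  by_cases c52 : k < 49144
  · exact chkList_get F R S st52 48888 st52_ok.1 k (by omega) (by rw [st52_ok.2]; omega)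
  by_cases c53 : k < 49400
  · exact chkList_get F R S st53 49144 st53_ok.1 k (by omega) (by rw [st53_ok.2]; omega)
  by_cases c54 : k < 49656
  · exact chkList_get F R S st54 49400 st54_ok.1 k (by omega) (by rw [st54_ok.2]; omega)
  by_cases c55 : k < 49912
  · exact chkList_get F R S st55 49656 st55_ok.1 k (by omega) (by rw [st55_ok.2]; omega)
  by_cases c56 : k < 50168
  · exact chkList_get F R S st56 49912 st56_ok.1 k (by omega) (by rw [st56_ok.2]; omega)
  by_cases c57 : k < 50424
  · exact chkList_get F R S st57 50168 st57_ok.1 k (by omega) (by rw [st57_ok.2]; omega)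
  by_cases c58 : k < 50680
  · exact chkList_get F R S st58 50424 st58_ok.1 k (by omega) (by rw [st58_ok.2]; omega)
  by_cases c59 : k < 50936
  · exact chkList_get F R S st59 50680 st59_ok.1 k (by omega) (by rw [st59_ok.2]; omega)
  by_cases c60 : k < 51192
  · exact chkList_get F R S st60 50936 st60_ok.1 k (by omega) (by rw [st60_ok.2]; omega)
  by_cases c61 : k < 51448
  · exact chkList_get F R S st61 51192 st61_ok.1 k (by omega) (by rw [st61_ok.2]; omega)
  by_cases c62 : k < 51704
  · exact chkList_get F R S st62 51448 st62_ok.1 k (by omega) (by rw [st62_ok.2]; omega)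
  by_cases c63 : k < 51960
  · exact chkList_get F R S st63 51704 st63_ok.1 k (by omega) (by rw [st63_ok.2]; omega)
  by_cases c64 : k < 52216
  · exact chkList_get F R S st64 51960 st64_ok.1 k (by omega) (by rw [st64_ok.2]; omega)
  by_cases c65 : k < 52472
  · exact chkList_get F R S st65 52216 st65_ok.1 k (by omega) (by rw [st65_ok.2]; omega)
  by_cases c66 : k < 52728
  · exact chkList_get F R S st66 52472 st66_ok.1 k (by omega) (by rw [st66_ok.2]; omega)
  by_cases c67 : k < 52984
  · exact chkList_get F R S st67 52728 st67_ok.1 k (by omega) (by rw [st67_ok.2]; omega)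
  by_cases c68 : k < 53240
  · exact chkList_get F R S st68 52984 st68_ok.1 k (by omega) (by rw [st68_ok.2]; omega)
  by_cases c69 : k < 53496
  · exact chkList_get F R S st69 53240 st69_ok.1 k (by omega) (by rw [st69_ok.2]; omega)
  by_cases c70 : k < 53752
  · exact chkList_get F R S st70 53496 st70_ok.1 k (by omega) (by rw [st70_ok.2]; omega)
  by_cases c71 : k < 54008
  · exact chkList_get F R S st71 53752 st71_ok.1 k (by omega) (by rw [st71_ok.2]; omega)
  by_cases c72 : k < 54264
  · exact chkList_get F R S st72 54008 st72_ok.1 k (by omega) (by rw [st72_ok.2]; omega)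
  by_cases c73 : k < 54520
  · exact chkList_get F R S st73 54264 st73_ok.1 k (by omega) (by rw [st73_ok.2]; omega)
  by_cases c74 : k < 54776
  · exact chkList_get F R S st74 54520 st74_ok.1 k (by omega) (by rw [st74_ok.2]; omega)
  by_cases c75 : k < 55032
  · exact chkList_get F R S st75 54776 st75_ok.1 k (by omega) (by rw [st75_ok.2]; omega)
  by_cases c76 : k < 55288
  · exact chkList_get F R S st76 55032 st76_ok.1 k (by omega) (by rw [st76_ok.2]; omega)
  by_cases c77 : k < 55544
  · exact chkList_get F R S st77 55288 st77_ok.1 k (by omega) (by rw [st77_ok.2]; omega)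
  by_cases c78 : k < 55800
  · exact chkList_get F R S st78 55544 st78_ok.1 k (by omega) (by rw [st78_ok.2]; omega)
  by_cases c79 : k < 56056
  · exact chkList_get F R S st79 55800 st79_ok.1 k (by omega) (by rw [st79_ok.2]; omega)
  by_cases c80 : k < 56312
  · exact chkList_get F R S st80 56056 st80_ok.1 k (by omega) (by rw [st80_ok.2]; omega)
  by_cases c81 : k < 56568
  · exact chkList_get F R S st81 56312 st81_ok.1 k (by omega) (by rw [st81_ok.2]; omega)
  by_cases c82 : k < 56824
  · exact chkList_get F R S st82 56568 st82_ok.1 k (by omega) (by rw [st82_ok.2]; omega)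
  by_cases c83 : k < 57080
  · exact chkList_get F R S st83 56824 st83_ok.1 k (by omega) (by rw [st83_ok.2]; omega)
  by_cases c84 : k < 57336
  · exact chkList_get F R S st84 57080 st84_ok.1 k (by omega) (by rw [st84_ok.2]; omega)
  by_cases c85 : k < 57592
  · exact chkList_get F R S st85 57336 st85_ok.1 k (by omega) (by rw [st85_ok.2]; omega)
  by_cases c86 : k < 57848
  · exact chkList_get F R S st86 57592 st86_ok.1 k (by omega) (by rw [st86_ok.2]; omega)
  by_cases c87 : k < 58104
  · exact chkList_get F R S st87 57848 st87_ok.1 k (by omega) (by rw [st87_ok.2]; omega)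
  by_cases c88 : k < 58360
  · exact chkList_get F R S st88 58104 st88_ok.1 k (by omega) (by rw [st88_ok.2]; omega)
  by_cases c89 : k < 58616
  · exact chkList_get F R S st89 58360 st89_ok.1 k (by omega) (by rw [st89_ok.2]; omega)
  by_cases c90 : k < 58872
  · exact chkList_get F R S st90 58616 st90_ok.1 k (by omega) (by rw [st90_ok.2]; omega)
  by_cases c91 : k < 59128
  · exact chkList_get F R S st91 58872 st91_ok.1 k (by omega) (by rw [st91_ok.2]; omega)
  by_cases c92 : k < 59384
  · exact chkList_get F R S st92 59128 st92_ok.1 k (by omega) (by rw [st92_ok.2]; omega)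
  by_cases c93 : k < 59640
  · exact chkList_get F R S st93 59384 st93_ok.1 k (by omega) (by rw [st93_ok.2]; omega)
  by_cases c94 : k < 59896
  · exact chkList_get F R S st94 59640 st94_ok.1 k (by omega) (by rw [st94_ok.2]; omega)
  by_cases c95 : k < 60152
  · exact chkList_get F R S st95 59896 st95_ok.1 k (by omega) (by rw [st95_ok.2]; omega)
  by_cases c96 : k < 60408
  · exact chkList_get F R S st96 60152 st96_ok.1 k (by omega) (by rw [st96_ok.2]; omega)
  by_cases c97 : k < 60664
  · exact chkList_get F R S st97 60408 st97_ok.1 k (by omega) (by rw [st97_ok.2]; omega)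
  by_cases c98 : k < 60920
  · exact chkList_get F R S st98 60664 st98_ok.1 k (by omega) (by rw [st98_ok.2]; omega)
  by_cases c99 : k < 61176
  · exact chkList_get F R S st99 60920 st99_ok.1 k (by omega) (by rw [st99_ok.2]; omega)
  by_cases c100 : k < 61432
  · exact chkList_get F R S st100 61176 st100_ok.1 k (by omega) (by rw [st100_ok.2]; omega)
  by_cases c101 : k < 61688
  · exact chkList_get F R S st101 61432 st101_ok.1 k (by omega) (by rw [st101_ok.2]; omega)
  by_cases c102 : k < 61944
  · exact chkList_get F R S st102 61688 st102_ok.1 k (by omega) (by rw [st102_ok.2]; omega)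
  by_cases c103 : k < 62200
  · exact chkList_get F R S st103 61944 st103_ok.1 k (by omega) (by rw [st103_ok.2]; omega)
  by_cases c104 : k < 62456
  · exact chkList_get F R S st104 62200 st104_ok.1 k (by omega) (by rw [st104_ok.2]; omega)
  by_cases c105 : k < 62712
  · exact chkList_get F R S st105 62456 st105_ok.1 k (by omega) (by rw [st105_ok.2]; omega)
  by_cases c106 : k < 62968
  · exact chkList_get F R S st106 62712 st106_ok.1 k (by omega) (by rw [st106_ok.2]; omega)
  by_cases c107 : k < 63224
  · exact chkList_get F R S st107 62968 st107_ok.1 k (by omega) (by rw [st107_ok.2]; omega)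
  by_cases c108 : k < 63480
  · exact chkList_get F R S st108 63224 st108_ok.1 k (by omega) (by rw [st108_ok.2]; omega)
  by_cases c109 : k < 63736
  · exact chkList_get F R S st109 63480 st109_ok.1 k (by omega) (by rw [st109_ok.2]; omega)
  by_cases c110 : k < 63992
  · exact chkList_get F R S st110 63736 st110_ok.1 k (by omega) (by rw [st110_ok.2]; omega)
  by_cases c111 : k < 64248
  · exact chkList_get F R S st111 63992 st111_ok.1 k (by omega) (by rw [st111_ok.2]; omega)
  by_cases c112 : k < 64504
  · exact chkList_get F R S st112 64248 st112_ok.1 k (by omega) (by rw [st112_ok.2]; omega)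
  by_cases c113 : k < 64760
  · exact chkList_get F R S st113 64504 st113_ok.1 k (by omega) (by rw [st113_ok.2]; omega)
  by_cases c114 : k < 65016
  · exact chkList_get F R S st114 64760 st114_ok.1 k (by omega) (by rw [st114_ok.2]; omega)
  by_cases c115 : k < 65272
  · exact chkList_get F R S st115 65016 st115_ok.1 k (by omega) (by rw [st115_ok.2]; omega)
  by_cases c116 : k < 65528
  · exact chkList_get F R S st116 65272 st116_ok.1 k (by omega) (by rw [st116_ok.2]; omega)
  by_cases c117 : k < 65784
  · exact chkList_get F R S st117 65528 st117_ok.1 k (by omega) (by rw [st117_ok.2]; omega)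
  by_cases c118 : k < 66040
  · exact chkList_get F R S st118 65784 st118_ok.1 k (by omega) (by rw [st118_ok.2]; omega)
  by_cases c119 : k < 66296
  · exact chkList_get F R S st119 66040 st119_ok.1 k (by omega) (by rw [st119_ok.2]; omega)
  by_cases c120 : k < 66552
  · exact chkList_get F R S st120 66296 st120_ok.1 k (by omega) (by rw [st120_ok.2]; omega)
  by_cases c121 : k < 66808
  · exact chkList_get F R S st121 66552 st121_ok.1 k (by omega) (by rw [st121_ok.2]; omega)
  by_cases c122 : k < 67064
  · exact chkList_get F R S st122 66808 st122_ok.1 k (by omega) (by rw [st122_ok.2]; omega)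
  by_cases c123 : k < 67320
  · exact chkList_get F R S st123 67064 st123_ok.1 k (by omega) (by rw [st123_ok.2]; omega)
  by_cases c124 : k < 67576
  · exact chkList_get F R S st124 67320 st124_ok.1 k (by omega) (by rw [st124_ok.2]; omega)
  by_cases c125 : k < 67832
  · exact chkList_get F R S st125 67576 st125_ok.1 k (by omega) (by rw [st125_ok.2]; omega)
  by_cases c126 : k < 68088
  · exact chkList_get F R S st126 67832 st126_ok.1 k (by omega) (by rw [st126_ok.2]; omega)
  by_cases c127 : k < 68344
  · exact chkList_get F R S st127 68088 st127_ok.1 k (by omega) (by rw [st127_ok.2]; omega)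
  by_cases c128 : k < 68600
  · exact chkList_get F R S st128 68344 st128_ok.1 k (by omega) (by rw [st128_ok.2]; omega)
  by_cases c129 : k < 68856
  · exact chkList_get F R S st129 68600 st129_ok.1 k (by omega) (by rw [st129_ok.2]; omega)
  by_cases c130 : k < 69112
  · exact chkList_get F R S st130 68856 st130_ok.1 k (by omega) (by rw [st130_ok.2]; omega)
  by_cases c131 : k < 69368
  · exact chkList_get F R S st131 69112 st131_ok.1 k (by omega) (by rw [st131_ok.2]; omega)
  by_cases c132 : k < 69624
  · exact chkList_get F R S st132 69368 st132_ok.1 k (by omega) (by rw [st132_ok.2]; omega)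
  by_cases c133 : k < 69880
  · exact chkList_get F R S st133 69624 st133_ok.1 k (by omega) (by rw [st133_ok.2]; omega)
  by_cases c134 : k < 70136
  · exact chkList_get F R S st134 69880 st134_ok.1 k (by omega) (by rw [st134_ok.2]; omega)
  by_cases c135 : k < 70392
  · exact chkList_get F R S st135 70136 st135_ok.1 k (by omega) (by rw [st135_ok.2]; omega)
  by_cases c136 : k < 70648
  · exact chkList_get F R S st136 70392 st136_ok.1 k (by omega) (by rw [st136_ok.2]; omega)
  by_cases c137 : k < 70904
  · exact chkList_get F R S st137 70648 st137_ok.1 k (by omega) (by rw [st137_ok.2]; omega)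
  by_cases c138 : k < 71160
  · exact chkList_get F R S st138 70904 st138_ok.1 k (by omega) (by rw [st138_ok.2]; omega)
  by_cases c139 : k < 71416
  · exact chkList_get F R S st139 71160 st139_ok.1 k (by omega) (by rw [st139_ok.2]; omega)
  by_cases c140 : k < 71672
  · exact chkList_get F R S st140 71416 st140_ok.1 k (by omega) (by rw [st140_ok.2]; omega)
  by_cases c141 : k < 71928
  · exact chkList_get F R S st141 71672 st141_ok.1 k (by omega) (by rw [st141_ok.2]; omega)
  by_cases c142 : k < 72184
  · exact chkList_get F R S st142 71928 st142_ok.1 k (by omega) (by rw [st142_ok.2]; omega)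
  by_cases c143 : k < 72440
  · exact chkList_get F R S st143 72184 st143_ok.1 k (by omega) (by rw [st143_ok.2]; omega)
  by_cases c144 : k < 72696
  · exact chkList_get F R S st144 72440 st144_ok.1 k (by omega) (by rw [st144_ok.2]; omega)
  by_cases c145 : k < 72952
  · exact chkList_get F R S st145 72696 st145_ok.1 k (by omega) (by rw [st145_ok.2]; omega)
  by_cases c146 : k < 73208
  · exact chkList_get F R S st146 72952 st146_ok.1 k (by omega) (by rw [st146_ok.2]; omega)
  by_cases c147 : k < 73464
  · exact chkList_get F R S st147 73208 st147_ok.1 k (by omega) (by rw [st147_ok.2]; omega)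
  by_cases c148 : k < 73720
  · exact chkList_get F R S st148 73464 st148_ok.1 k (by omega) (by rw [st148_ok.2]; omega)
  by_cases c149 : k < 73976
  · exact chkList_get F R S st149 73720 st149_ok.1 k (by omega) (by rw [st149_ok.2]; omega)
  by_cases c150 : k < 74232
  · exact chkList_get F R S st150 73976 st150_ok.1 k (by omega) (by rw [st150_ok.2]; omega)
  by_cases c151 : k < 74488
  · exact chkList_get F R S st151 74232 st151_ok.1 k (by omega) (by rw [st151_ok.2]; omega)
  by_cases c152 : k < 74744
  · exact chkList_get F R S st152 74488 st152_ok.1 k (by omega) (by rw [st152_ok.2]; omega)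
  by_cases c153 : k < 75000
  · exact chkList_get F R S st153 74744 st153_ok.1 k (by omega) (by rw [st153_ok.2]; omega)
  by_cases c154 : k < 75256
  · exact chkList_get F R S st154 75000 st154_ok.1 k (by omega) (by rw [st154_ok.2]; omega)
  by_cases c155 : k < 75512
  · exact chkList_get F R S st155 75256 st155_ok.1 k (by omega) (by rw [st155_ok.2]; omega)
  by_cases c156 : k < 75768
  · exact chkList_get F R S st156 75512 st156_ok.1 k (by omega) (by rw [st156_ok.2]; omega)
  by_cases c157 : k < 76024
  · exact chkList_get F R S st157 75768 st157_ok.1 k (by omega) (by rw [st157_ok.2]; omega)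
  by_cases c158 : k < 76280
  · exact chkList_get F R S st158 76024 st158_ok.1 k (by omega) (by rw [st158_ok.2]; omega)
  by_cases c159 : k < 76536
  · exact chkList_get F R S st159 76280 st159_ok.1 k (by omega) (by rw [st159_ok.2]; omega)
  by_cases c160 : k < 76792
  · exact chkList_get F R S st160 76536 st160_ok.1 k (by omega) (by rw [st160_ok.2]; omega)
  by_cases c161 : k < 77048
  · exact chkList_get F R S st161 76792 st161_ok.1 k (by omega) (by rw [st161_ok.2]; omega)
  by_cases c162 : k < 77304
  · exact chkList_get F R S st162 77048 st162_ok.1 k (by omega) (by rw [st162_ok.2]; omega)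
  by_cases c163 : k < 77560
  · exact chkList_get F R S st163 77304 st163_ok.1 k (by omega) (by rw [st163_ok.2]; omega)
  by_cases c164 : k < 77816
  · exact chkList_get F R S st164 77560 st164_ok.1 k (by omega) (by rw [st164_ok.2]; omega)
  by_cases c165 : k < 78072
  · exact chkList_get F R S st165 77816 st165_ok.1 k (by omega) (by rw [st165_ok.2]; omega)
  by_cases c166 : k < 78328
  · exact chkList_get F R S st166 78072 st166_ok.1 k (by omega) (by rw [st166_ok.2]; omega)
  by_cases c167 : k < 78584
  · exact chkList_get F R S st167 78328 st167_ok.1 k (by omega) (by rw [st167_ok.2]; omega)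
  by_cases c168 : k < 78840
  · exact chkList_get F R S st168 78584 st168_ok.1 k (by omega) (by rw [st168_ok.2]; omega)
  by_cases c169 : k < 79096
  · exact chkList_get F R S st169 78840 st169_ok.1 k (by omega) (by rw [st169_ok.2]; omega)
  by_cases c170 : k < 79352
  · exact chkList_get F R S st170 79096 st170_ok.1 k (by omega) (by rw [st170_ok.2]; omega)
  by_cases c171 : k < 79608
  · exact chkList_get F R S st171 79352 st171_ok.1 k (by omega) (by rw [st171_ok.2]; omega)
  by_cases c172 : k < 79864
  · exact chkList_get F R S st172 79608 st172_ok.1 k (by omega) (by rw [st172_ok.2]; omega)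
  by_cases c173 : k < 80120
  · exact chkList_get F R S st173 79864 st173_ok.1 k (by omega) (by rw [st173_ok.2]; omega)
  by_cases c174 : k < 80376
  · exact chkList_get F R S st174 80120 st174_ok.1 k (by omega) (by rw [st174_ok.2]; omega)
  by_cases c175 : k < 80632
  · exact chkList_get F R S st175 80376 st175_ok.1 k (by omega) (by rw [st175_ok.2]; omega)
  by_cases c176 : k < 80888
  · exact chkList_get F R S st176 80632 st176_ok.1 k (by omega) (by rw [st176_ok.2]; omega)
  by_cases c177 : k < 81144
  · exact chkList_get F R S st177 80888 st177_ok.1 k (by omega) (by rw [st177_ok.2]; omega)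
  by_cases c178 : k < 81400
  · exact chkList_get F R S st178 81144 st178_ok.1 k (by omega) (by rw [st178_ok.2]; omega)
  by_cases c179 : k < 81656
  · exact chkList_get F R S st179 81400 st179_ok.1 k (by omega) (by rw [st179_ok.2]; omega)
  by_cases c180 : k < 81912
  · exact chkList_get F R S st180 81656 st180_ok.1 k (by omega) (by rw [st180_ok.2]; omega)
  by_cases c181 : k < 82168
  · exact chkList_get F R S st181 81912 st181_ok.1 k (by omega) (by rw [st181_ok.2]; omega)
  by_cases c182 : k < 82424
  · exact chkList_get F R S st182 82168 st182_ok.1 k (by omega) (by rw [st182_ok.2]; omega)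
  by_cases c183 : k < 82680
  · exact chkList_get F R S st183 82424 st183_ok.1 k (by omega) (by rw [st183_ok.2]; omega)
  by_cases c184 : k < 82936
  · exact chkList_get F R S st184 82680 st184_ok.1 k (by omega) (by rw [st184_ok.2]; omega)
  by_cases c185 : k < 83192
  · exact chkList_get F R S st185 82936 st185_ok.1 k (by omega) (by rw [st185_ok.2]; omega)
  by_cases c186 : k < 83448
  · exact chkList_get F R S st186 83192 st186_ok.1 k (by omega) (by rw [st186_ok.2]; omega)
  by_cases c187 : k < 83704
  · exact chkList_get F R S st187 83448 st187_ok.1 k (by omega) (by rw [st187_ok.2]; omega)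
  by_cases c188 : k < 83960
  · exact chkList_get F R S st188 83704 st188_ok.1 k (by omega) (by rw [st188_ok.2]; omega)
  by_cases c189 : k < 84216
  · exact chkList_get F R S st189 83960 st189_ok.1 k (by omega) (by rw [st189_ok.2]; omega)
  by_cases c190 : k < 84472
  · exact chkList_get F R S st190 84216 st190_ok.1 k (by omega) (by rw [st190_ok.2]; omega)
  by_cases c191 : k < 84728
  · exact chkList_get F R S st191 84472 st191_ok.1 k (by omega) (by rw [st191_ok.2]; omega)
  by_cases c192 : k < 84984
  · exact chkList_get F R S st192 84728 st192_ok.1 k (by omega) (by rw [st192_ok.2]; omega)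
  by_cases c193 : k < 85240
  · exact chkList_get F R S st193 84984 st193_ok.1 k (by omega) (by rw [st193_ok.2]; omega)
  by_cases c194 : k < 85496
  · exact chkList_get F R S st194 85240 st194_ok.1 k (by omega) (by rw [st194_ok.2]; omega)
  by_cases c195 : k < 85752
  · exact chkList_get F R S st195 85496 st195_ok.1 k (by omega) (by rw [st195_ok.2]; omega)
  by_cases c196 : k < 86008
  · exact chkList_get F R S st196 85752 st196_ok.1 k (by omega) (by rw [st196_ok.2]; omega)
  by_cases c197 : k < 86264
  · exact chkList_get F R S st197 86008 st197_ok.1 k (by omega) (by rw [st197_ok.2]; omega)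
  by_cases c198 : k < 86520
  · exact chkList_get F R S st198 86264 st198_ok.1 k (by omega) (by rw [st198_ok.2]; omega)
  by_cases c199 : k < 86776
  · exact chkList_get F R S st199 86520 st199_ok.1 k (by omega) (by rw [st199_ok.2]; omega)
  by_cases c200 : k < 87032
  · exact chkList_get F R S st200 86776 st200_ok.1 k (by omega) (by rw [st200_ok.2]; omega)
  by_cases c201 : k < 87288
  · exact chkList_get F R S st201 87032 st201_ok.1 k (by omega) (by rw [st201_ok.2]; omega)
  by_cases c202 : k < 87544
  · exact chkList_get F R S st202 87288 st202_ok.1 k (by omega) (by rw [st202_ok.2]; omega)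
  by_cases c203 : k < 87800
  · exact chkList_get F R S st203 87544 st203_ok.1 k (by omega) (by rw [st203_ok.2]; omega)
  by_cases c204 : k < 88056
  · exact chkList_get F R S st204 87800 st204_ok.1 k (by omega) (by rw [st204_ok.2]; omega)
  by_cases c205 : k < 88312
  · exact chkList_get F R S st205 88056 st205_ok.1 k (by omega) (by rw [st205_ok.2]; omega)
  by_cases c206 : k < 88568
  · exact chkList_get F R S st206 88312 st206_ok.1 k (by omega) (by rw [st206_ok.2]; omega)
  by_cases c207 : k < 88824
  · exact chkList_get F R S st207 88568 st207_ok.1 k (by omega) (by rw [st207_ok.2]; omega)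
  by_cases c208 : k < 89080
  · exact chkList_get F R S st208 88824 st208_ok.1 k (by omega) (by rw [st208_ok.2]; omega)
  by_cases c209 : k < 89336
  · exact chkList_get F R S st209 89080 st209_ok.1 k (by omega) (by rw [st209_ok.2]; omega)
  by_cases c210 : k < 89592
  · exact chkList_get F R S st210 89336 st210_ok.1 k (by omega) (by rw [st210_ok.2]; omega)
  by_cases c211 : k < 89848
  · exact chkList_get F R S st211 89592 st211_ok.1 k (by omega) (by rw [st211_ok.2]; omega)
  by_cases c212 : k < 90104
  · exact chkList_get F R S st212 89848 st212_ok.1 k (by omega) (by rw [st212_ok.2]; omega)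
  by_cases c213 : k < 90360
  · exact chkList_get F R S st213 90104 st213_ok.1 k (by omega) (by rw [st213_ok.2]; omega)
  by_cases c214 : k < 90616
  · exact chkList_get F R S st214 90360 st214_ok.1 k (by omega) (by rw [st214_ok.2]; omega)
  by_cases c215 : k < 90872
  · exact chkList_get F R S st215 90616 st215_ok.1 k (by omega) (by rw [st215_ok.2]; omega)
  by_cases c216 : k < 91128
  · exact chkList_get F R S st216 90872 st216_ok.1 k (by omega) (by rw [st216_ok.2]; omega)
  by_cases c217 : k < 91384
  · exact chkList_get F R S st217 91128 st217_ok.1 k (by omega) (by rw [st217_ok.2]; omega)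
  by_cases c218 : k < 91640
  · exact chkList_get F R S st218 91384 st218_ok.1 k (by omega) (by rw [st218_ok.2]; omega)
  by_cases c219 : k < 91896
  · exact chkList_get F R S st219 91640 st219_ok.1 k (by omega) (by rw [st219_ok.2]; omega)
  by_cases c220 : k < 92152
  · exact chkList_get F R S st220 91896 st220_ok.1 k (by omega) (by rw [st220_ok.2]; omega)
  by_cases c221 : k < 92408
  · exact chkList_get F R S st221 92152 st221_ok.1 k (by omega) (by rw [st221_ok.2]; omega)
  by_cases c222 : k < 92664
  · exact chkList_get F R S st222 92408 st222_ok.1 k (by omega) (by rw [st222_ok.2]; omega)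
  by_cases c223 : k < 92920
  · exact chkList_get F R S st223 92664 st223_ok.1 k (by omega) (by rw [st223_ok.2]; omega)
  by_cases c224 : k < 93176
  · exact chkList_get F R S st224 92920 st224_ok.1 k (by omega) (by rw [st224_ok.2]; omega)
  by_cases c225 : k < 93432
  · exact chkList_get F R S st225 93176 st225_ok.1 k (by omega) (by rw [st225_ok.2]; omega)
  by_cases c226 : k < 93688
  · exact chkList_get F R S st226 93432 st226_ok.1 k (by omega) (by rw [st226_ok.2]; omega)
  by_cases c227 : k < 93944
  · exact chkList_get F R S st227 93688 st227_ok.1 k (by omega) (by rw [st227_ok.2]; omega)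
  by_cases c228 : k < 94200
  · exact chkList_get F R S st228 93944 st228_ok.1 k (by omega) (by rw [st228_ok.2]; omega)
  by_cases c229 : k < 94456
  · exact chkList_get F R S st229 94200 st229_ok.1 k (by omega) (by rw [st229_ok.2]; omega)
  by_cases c230 : k < 94712
  · exact chkList_get F R S st230 94456 st230_ok.1 k (by omega) (by rw [st230_ok.2]; omega)
  by_cases c231 : k < 94968
  · exact chkList_get F R S st231 94712 st231_ok.1 k (by omega) (by rw [st231_ok.2]; omega)
  by_cases c232 : k < 95224
  · exact chkList_get F R S st232 94968 st232_ok.1 k (by omega) (by rw [st232_ok.2]; omega)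
  by_cases c233 : k < 95480
  · exact chkList_get F R S st233 95224 st233_ok.1 k (by omega) (by rw [st233_ok.2]; omega)
  by_cases c234 : k < 95736
  · exact chkList_get F R S st234 95480 st234_ok.1 k (by omega) (by rw [st234_ok.2]; omega)
  by_cases c235 : k < 95992
  · exact chkList_get F R S st235 95736 st235_ok.1 k (by omega) (by rw [st235_ok.2]; omega)
  by_cases c236 : k < 96248
  · exact chkList_get F R S st236 95992 st236_ok.1 k (by omega) (by rw [st236_ok.2]; omega)
  by_cases c237 : k < 96504
  · exact chkList_get F R S st237 96248 st237_ok.1 k (by omega) (by rw [st237_ok.2]; omega)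
  by_cases c238 : k < 96760
  · exact chkList_get F R S st238 96504 st238_ok.1 k (by omega) (by rw [st238_ok.2]; omega)
  by_cases c239 : k < 97016
  · exact chkList_get F R S st239 96760 st239_ok.1 k (by omega) (by rw [st239_ok.2]; omega)
  by_cases c240 : k < 97272
  · exact chkList_get F R S st240 97016 st240_ok.1 k (by omega) (by rw [st240_ok.2]; omega)
  by_cases c241 : k < 97528
  · exact chkList_get F R S st241 97272 st241_ok.1 k (by omega) (by rw [st241_ok.2]; omega)
  by_cases c242 : k < 97784
  · exact chkList_get F R S st242 97528 st242_ok.1 k (by omega) (by rw [st242_ok.2]; omega)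
  by_cases c243 : k < 98040
  · exact chkList_get F R S st243 97784 st243_ok.1 k (by omega) (by rw [st243_ok.2]; omega)
  by_cases c244 : k < 98296
  · exact chkList_get F R S st244 98040 st244_ok.1 k (by omega) (by rw [st244_ok.2]; omega)
  by_cases c245 : k < 98552
  · exact chkList_get F R S st245 98296 st245_ok.1 k (by omega) (by rw [st245_ok.2]; omega)
  by_cases c246 : k < 98808
  · exact chkList_get F R S st246 98552 st246_ok.1 k (by omega) (by rw [st246_ok.2]; omega)
  by_cases c247 : k < 99064
  · exact chkList_get F R S st247 98808 st247_ok.1 k (by omega) (by rw [st247_ok.2]; omega)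
  by_cases c248 : k < 99320
  · exact chkList_get F R S st248 99064 st248_ok.1 k (by omega) (by rw [st248_ok.2]; omega)
  by_cases c249 : k < 99576
  · exact chkList_get F R S st249 99320 st249_ok.1 k (by omega) (by rw [st249_ok.2]; omega)
  by_cases c250 : k < 99832
  · exact chkList_get F R S st250 99576 st250_ok.1 k (by omega) (by rw [st250_ok.2]; omega)
  by_cases c251 : k < 100088
  · exact chkList_get F R S st251 99832 st251_ok.1 k (by omega) (by rw [st251_ok.2]; omega)
  by_cases c252 : k < 100344
  · exact chkList_get F R S st252 100088 st252_ok.1 k (by omega) (by rw [st252_ok.2]; omega)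
  by_cases c253 : k < 100600
  · exact chkList_get F R S st253 100344 st253_ok.1 k (by omega) (by rw [st253_ok.2]; omega)
  by_cases c254 : k < 100856
  · exact chkList_get F R S st254 100600 st254_ok.1 k (by omega) (by rw [st254_ok.2]; omega)
  by_cases c255 : k < 101112
  · exact chkList_get F R S st255 100856 st255_ok.1 k (by omega) (by rw [st255_ok.2]; omega)
  by_cases c256 : k < 101368
  · exact chkList_get F R S st256 101112 st256_ok.1 k (by omega) (by rw [st256_ok.2]; omega)
  by_cases c257 : k < 101624
  · exact chkList_get F R S st257 101368 st257_ok.1 k (by omega) (by rw [st257_ok.2]; omega)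
  by_cases c258 : k < 101880
  · exact chkList_get F R S st258 101624 st258_ok.1 k (by omega) (by rw [st258_ok.2]; omega)
  by_cases c259 : k < 102136
  · exact chkList_get F R S st259 101880 st259_ok.1 k (by omega) (by rw [st259_ok.2]; omega)
  by_cases c260 : k < 102392
  · exact chkList_get F R S st260 102136 st260_ok.1 k (by omega) (by rw [st260_ok.2]; omega)
  by_cases c261 : k < 102648
  · exact chkList_get F R S st261 102392 st261_ok.1 k (by omega) (by rw [st261_ok.2]; omega)
  by_cases c262 : k < 102904
  · exact chkList_get F R S st262 102648 st262_ok.1 k (by omega) (by rw [st262_ok.2]; omega)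
  by_cases c263 : k < 103160
  · exact chkList_get F R S st263 102904 st263_ok.1 k (by omega) (by rw [st263_ok.2]; omega)
  by_cases c264 : k < 103416
  · exact chkList_get F R S st264 103160 st264_ok.1 k (by omega) (by rw [st264_ok.2]; omega)
  by_cases c265 : k < 103672
  · exact chkList_get F R S st265 103416 st265_ok.1 k (by omega) (by rw [st265_ok.2]; omega)
  by_cases c266 : k < 103928
  · exact chkList_get F R S st266 103672 st266_ok.1 k (by omega) (by rw [st266_ok.2]; omega)
  by_cases c267 : k < 104184
  · exact chkList_get F R S st267 103928 st267_ok.1 k (by omega) (by rw [st267_ok.2]; omega)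
  by_cases c268 : k < 104440
  · exact chkList_get F R S st268 104184 st268_ok.1 k (by omega) (by rw [st268_ok.2]; omega)
  by_cases c269 : k < 104696
  · exact chkList_get F R S st269 104440 st269_ok.1 k (by omega) (by rw [st269_ok.2]; omega)
  by_cases c270 : k < 104952
  · exact chkList_get F R S st270 104696 st270_ok.1 k (by omega) (by rw [st270_ok.2]; omega)
  by_cases c271 : k < 105208
  · exact chkList_get F R S st271 104952 st271_ok.1 k (by omega) (by rw [st271_ok.2]; omega)
  by_cases c272 : k < 105464
  · exact chkList_get F R S st272 105208 st272_ok.1 k (by omega) (by rw [st272_ok.2]; omega)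
  by_cases c273 : k < 105720
  · exact chkList_get F R S st273 105464 st273_ok.1 k (by omega) (by rw [st273_ok.2]; omega)
  by_cases c274 : k < 105976
  · exact chkList_get F R S st274 105720 st274_ok.1 k (by omega) (by rw [st274_ok.2]; omega)
  by_cases c275 : k < 106232
  · exact chkList_get F R S st275 105976 st275_ok.1 k (by omega) (by rw [st275_ok.2]; omega)
  by_cases c276 : k < 106488
  · exact chkList_get F R S st276 106232 st276_ok.1 k (by omega) (by rw [st276_ok.2]; omega)
  by_cases c277 : k < 106744
  · exact chkList_get F R S st277 106488 st277_ok.1 k (by omega) (by rw [st277_ok.2]; omega)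
  by_cases c278 : k < 107000
  · exact chkList_get F R S st278 106744 st278_ok.1 k (by omega) (by rw [st278_ok.2]; omega)
  by_cases c279 : k < 107256
  · exact chkList_get F R S st279 107000 st279_ok.1 k (by omega) (by rw [st279_ok.2]; omega)
  by_cases c280 : k < 107512
  · exact chkList_get F R S st280 107256 st280_ok.1 k (by omega) (by rw [st280_ok.2]; omega)
  by_cases c281 : k < 107768
  · exact chkList_get F R S st281 107512 st281_ok.1 k (by omega) (by rw [st281_ok.2]; omega)
  by_cases c282 : k < 108024
  · exact chkList_get F R S st282 107768 st282_ok.1 k (by omega) (by rw [st282_ok.2]; omega)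
  by_cases c283 : k < 108280
  · exact chkList_get F R S st283 108024 st283_ok.1 k (by omega) (by rw [st283_ok.2]; omega)
  by_cases c284 : k < 108536
  · exact chkList_get F R S st284 108280 st284_ok.1 k (by omega) (by rw [st284_ok.2]; omega)
  by_cases c285 : k < 108792
  · exact chkList_get F R S st285 108536 st285_ok.1 k (by omega) (by rw [st285_ok.2]; omega)
  by_cases c286 : k < 109048
  · exact chkList_get F R S st286 108792 st286_ok.1 k (by omega) (by rw [st286_ok.2]; omega)
  by_cases c287 : k < 109304
  · exact chkList_get F R S st287 109048 st287_ok.1 k (by omega) (by rw [st287_ok.2]; omega)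
  by_cases c288 : k < 109560
  · exact chkList_get F R S st288 109304 st288_ok.1 k (by omega) (by rw [st288_ok.2]; omega)
  by_cases c289 : k < 109816
  · exact chkList_get F R S st289 109560 st289_ok.1 k (by omega) (by rw [st289_ok.2]; omega)
  by_cases c290 : k < 110072
  · exact chkList_get F R S st290 109816 st290_ok.1 k (by omega) (by rw [st290_ok.2]; omega)
  by_cases c291 : k < 110328
  · exact chkList_get F R S st291 110072 st291_ok.1 k (by omega) (by rw [st291_ok.2]; omega)
  by_cases c292 : k < 110584
  · exact chkList_get F R S st292 110328 st292_ok.1 k (by omega) (by rw [st292_ok.2]; omega)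
  by_cases c293 : k < 110840
  · exact chkList_get F R S st293 110584 st293_ok.1 k (by omega) (by rw [st293_ok.2]; omega)
  by_cases c294 : k < 111096
  · exact chkList_get F R S st294 110840 st294_ok.1 k (by omega) (by rw [st294_ok.2]; omega)
  by_cases c295 : k < 111352
  · exact chkList_get F R S st295 111096 st295_ok.1 k (by omega) (by rw [st295_ok.2]; omega)
  by_cases c296 : k < 111608
  · exact chkList_get F R S st296 111352 st296_ok.1 k (by omega) (by rw [st296_ok.2]; omega)
  by_cases c297 : k < 111864
  · exact chkList_get F R S st297 111608 st297_ok.1 k (by omega) (by rw [st297_ok.2]; omega)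
  by_cases c298 : k < 112120
  · exact chkList_get F R S st298 111864 st298_ok.1 k (by omega) (by rw [st298_ok.2]; omega)
  by_cases c299 : k < 112376
  · exact chkList_get F R S st299 112120 st299_ok.1 k (by omega) (by rw [st299_ok.2]; omega)
  by_cases c300 : k < 112632
  · exact chkList_get F R S st300 112376 st300_ok.1 k (by omega) (by rw [st300_ok.2]; omega)
  by_cases c301 : k < 112888
  · exact chkList_get F R S st301 112632 st301_ok.1 k (by omega) (by rw [st301_ok.2]; omega)
  by_cases c302 : k < 113144
  · exact chkList_get F R S st302 112888 st302_ok.1 k (by omega) (by rw [st302_ok.2]; omega)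
  by_cases c303 : k < 113400
  · exact chkList_get F R S st303 113144 st303_ok.1 k (by omega) (by rw [st303_ok.2]; omega)
  by_cases c304 : k < 113656
  · exact chkList_get F R S st304 113400 st304_ok.1 k (by omega) (by rw [st304_ok.2]; omega)
  by_cases c305 : k < 113912
  · exact chkList_get F R S st305 113656 st305_ok.1 k (by omega) (by rw [st305_ok.2]; omega)
  by_cases c306 : k < 114168
  · exact chkList_get F R S st306 113912 st306_ok.1 k (by omega) (by rw [st306_ok.2]; omega)
  by_cases c307 : k < 114424
  · exact chkList_get F R S st307 114168 st307_ok.1 k (by omega) (by rw [st307_ok.2]; omega)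
  by_cases c308 : k < 114680
  · exact chkList_get F R S st308 114424 st308_ok.1 k (by omega) (by rw [st308_ok.2]; omega)
  by_cases c309 : k < 114936
  · exact chkList_get F R S st309 114680 st309_ok.1 k (by omega) (by rw [st309_ok.2]; omega)
  by_cases c310 : k < 115192
  · exact chkList_get F R S st310 114936 st310_ok.1 k (by omega) (by rw [st310_ok.2]; omega)
  by_cases c311 : k < 115448
  · exact chkList_get F R S st311 115192 st311_ok.1 k (by omega) (by rw [st311_ok.2]; omega)
  by_cases c312 : k < 115704
  · exact chkList_get F R S st312 115448 st312_ok.1 k (by omega) (by rw [st312_ok.2]; omega)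
  by_cases c313 : k < 115960
  · exact chkList_get F R S st313 115704 st313_ok.1 k (by omega) (by rw [st313_ok.2]; omega)
  by_cases c314 : k < 116216
  · exact chkList_get F R S st314 115960 st314_ok.1 k (by omega) (by rw [st314_ok.2]; omega)
  by_cases c315 : k < 116472
  · exact chkList_get F R S st315 116216 st315_ok.1 k (by omega) (by rw [st315_ok.2]; omega)
  by_cases c316 : k < 116728
  · exact chkList_get F R S st316 116472 st316_ok.1 k (by omega) (by rw [st316_ok.2]; omega)
  by_cases c317 : k < 116984
  · exact chkList_get F R S st317 116728 st317_ok.1 k (by omega) (by rw [st317_ok.2]; omega)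
  by_cases c318 : k < 117240
  · exact chkList_get F R S st318 116984 st318_ok.1 k (by omega) (by rw [st318_ok.2]; omega)
  by_cases c319 : k < 117496
  · exact chkList_get F R S st319 117240 st319_ok.1 k (by omega) (by rw [st319_ok.2]; omega)
  by_cases c320 : k < 117752
  · exact chkList_get F R S st320 117496 st320_ok.1 k (by omega) (by rw [st320_ok.2]; omega)
  by_cases c321 : k < 118008
  · exact chkList_get F R S st321 117752 st321_ok.1 k (by omega) (by rw [st321_ok.2]; omega)
  by_cases c322 : k < 118264
  · exact chkList_get F R S st322 118008 st322_ok.1 k (by omega) (by rw [st322_ok.2]; omega)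
  by_cases c323 : k < 118520
  · exact chkList_get F R S st323 118264 st323_ok.1 k (by omega) (by rw [st323_ok.2]; omega)
  by_cases c324 : k < 118776
  · exact chkList_get F R S st324 118520 st324_ok.1 k (by omega) (by rw [st324_ok.2]; omega)
  by_cases c325 : k < 119032
  · exact chkList_get F R S st325 118776 st325_ok.1 k (by omega) (by rw [st325_ok.2]; omega)
  by_cases c326 : k < 119288
  · exact chkList_get F R S st326 119032 st326_ok.1 k (by omega) (by rw [st326_ok.2]; omega)
  by_cases c327 : k < 119544
  · exact chkList_get F R S st327 119288 st327_ok.1 k (by omega) (by rw [st327_ok.2]; omega)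
  by_cases c328 : k < 119800
  · exact chkList_get F R S st328 119544 st328_ok.1 k (by omega) (by rw [st328_ok.2]; omega)
  by_cases c329 : k < 120056
  · exact chkList_get F R S st329 119800 st329_ok.1 k (by omega) (by rw [st329_ok.2]; omega)
  by_cases c330 : k < 120312
  · exact chkList_get F R S st330 120056 st330_ok.1 k (by omega) (by rw [st330_ok.2]; omega)
  by_cases c331 : k < 120568
  · exact chkList_get F R S st331 120312 st331_ok.1 k (by omega) (by rw [st331_ok.2]; omega)
  by_cases c332 : k < 120824
  · exact chkList_get F R S st332 120568 st332_ok.1 k (by omega) (by rw [st332_ok.2]; omega)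
  by_cases c333 : k < 121080
  · exact chkList_get F R S st333 120824 st333_ok.1 k (by omega) (by rw [st333_ok.2]; omega)
  by_cases c334 : k < 121336
  · exact chkList_get F R S st334 121080 st334_ok.1 k (by omega) (by rw [st334_ok.2]; omega)
  by_cases c335 : k < 121592
  · exact chkList_get F R S st335 121336 st335_ok.1 k (by omega) (by rw [st335_ok.2]; omega)
  by_cases c336 : k < 121848
  · exact chkList_get F R S st336 121592 st336_ok.1 k (by omega) (by rw [st336_ok.2]; omega)
  by_cases c337 : k < 122104
  · exact chkList_get F R S st337 121848 st337_ok.1 k (by omega) (by rw [st337_ok.2]; omega)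
  by_cases c338 : k < 122360
  · exact chkList_get F R S st338 122104 st338_ok.1 k (by omega) (by rw [st338_ok.2]; omega)
  by_cases c339 : k < 122616
  · exact chkList_get F R S st339 122360 st339_ok.1 k (by omega) (by rw [st339_ok.2]; omega)
  by_cases c340 : k < 122872
  · exact chkList_get F R S st340 122616 st340_ok.1 k (by omega) (by rw [st340_ok.2]; omega)
  by_cases c341 : k < 123128
  · exact chkList_get F R S st341 122872 st341_ok.1 k (by omega) (by rw [st341_ok.2]; omega)
  by_cases c342 : k < 123384
  · exact chkList_get F R S st342 123128 st342_ok.1 k (by omega) (by rw [st342_ok.2]; omega)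
  by_cases c343 : k < 123640
  · exact chkList_get F R S st343 123384 st343_ok.1 k (by omega) (by rw [st343_ok.2]; omega)
  by_cases c344 : k < 123896
  · exact chkList_get F R S st344 123640 st344_ok.1 k (by omega) (by rw [st344_ok.2]; omega)
  by_cases c345 : k < 124152
  · exact chkList_get F R S st345 123896 st345_ok.1 k (by omega) (by rw [st345_ok.2]; omega)
  by_cases c346 : k < 124408
  · exact chkList_get F R S st346 124152 st346_ok.1 k (by omega) (by rw [st346_ok.2]; omega)
  by_cases c347 : k < 124664
  · exact chkList_get F R S st347 124408 st347_ok.1 k (by omega) (by rw [st347_ok.2]; omega)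
  by_cases c348 : k < 124793
  · exact chkList_get F R S st348 124664 st348_ok.1 k (by omega) (by rw [st348_ok.2]; omega)
  omega

end H29.CosetCert.SuzUData
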