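import Cfsg.Agent.H29.CosetCert.SuzU.RelsBase

/-! Relator checks for SuzU, produced outside Lean and checked here. -/

set_option autoImplicit false
set_option maxRecDepth 16000
set_option Elab.async false

namespace H29.CosetCert.SuzUData

open H29.CosetCert

theorem relsF140 : allF (fixF rowF relW) 21000 150 = true := by decide +kernel

theorem relsF141 : allF (fixF rowF relW) 21150 150 = true := by decide +kernel

theorem relsF142 : allF (fixF rowF relW) 21300 150 = true := by decide +kernel

theorem relsF143 : allF (fixF rowF relW) 21450 150 = true := by decide +kernel

theorem relsF144 : allF (fixF rowF relW) 21600 150 = true := by decide +kernel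

theorem relsF145 : allF (fixF rowF relW) 21750 150 = true := by decide +kernel

theorem relsF146 : allF (fixF rowF relW) 21900 150 = true := by decide +kernel

theorem relsF147 : allF (fixF rowF relW) 22050 150 = true := by decide +kernel

theorem relsF148 : allF (fixF rowF relW) 22200 150 = true := by decide +kernel

theorem relsF149 : allF (fixF rowF relW) 22350 150 = true := by decide +kernel

theorem relsF150 : allF (fixF rowF relW) 22500 150 = true := by decide +kernel

theorem relsF151 : allF (fixF rowF relW) 22650 150 = true := by decide +kernel

theorem relsF152 : allF (fixF rowF relW) 22800 80 = true := by decide +kernel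

theorem relsB10 (c : ℕ) (h0 : 21000 ≤ c) (h1 : c < 22880) : fixF rowF relW c = true := by
  by_cases h140 : c < 21150
  · exact allF_spec _ _ _ relsF140 c (by omega) (by omega)
  by_cases h141 : c < 21300
  · exact allF_spec _ _ _ relsF141 c (by omega) (by omega)
  by_cases h142 : c < 21450
  · exact allF_spec _ _ _ relsF142 c (by omega) (by omega)
  by_cases h143 : c < 21600
  · exact allF_spec _ _ _ relsF143 c (by omega) (by omega)
  by_cases h144 : c < 21750
  · exact allF_spec _ _ _ relsF144 c (by omega) (by omega)
  by_cases h145 : c < 21900
  · exact allF_spec _ _ _ relsF145 c (by omega) (by omega)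
  by_cases h146 : c < 22050
  · exact allF_spec _ _ _ relsF146 c (by omega) (by omega)
  by_cases h147 : c < 22200
  · exact allF_spec _ _ _ relsF147 c (by omega) (by omega)
  by_cases h148 : c < 22350
  · exact allF_spec _ _ _ relsF148 c (by omega) (by omega)
  by_cases h149 : c < 22500
  · exact allF_spec _ _ _ relsF149 c (by omega) (by omega)
  by_cases h150 : c < 22650
  · exact allF_spec _ _ _ relsF150 c (by omega) (by omega)
  by_cases h151 : c < 22800
  · exact allF_spec _ _ _ relsF151 c (by omega) (by omega)
  by_cases h152 : c < 22880
  · exact allF_spec _ _ _ relsF152 c (by omega) (by omega)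
  omega

end H29.CosetCert.SuzUData
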