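import Cfsg.Agent.H29.CosetCert.SuzU.RelsBase

/-! Relator checks for SuzU, produced outside Lean and checked here. -/

set_option autoImplicit false
set_option maxRecDepth 16000
set_option Elab.async false

namespace H29.CosetCert.SuzUData

open H29.CosetCert

theorem relsF126 : allF (fixF rowF relW) 18900 150 = true := by decide +kernel

theorem relsF127 : allF (fixF rowF relW) 19050 150 = true := by decide +kernel

theorem relsF128 : allF (fixF rowF relW) 19200 150 = true := by decide +kernel

theorem relsF129 : allF (fixF rowF relW) 19350 150 = true := by decide +kernel

theorem relsF130 : allF (fixF rowF relW) 19500 150 = true := by decide +kernel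

theorem relsF131 : allF (fixF rowF relW) 19650 150 = true := by decide +kernel

theorem relsF132 : allF (fixF rowF relW) 19800 150 = true := by decide +kernel

theorem relsF133 : allF (fixF rowF relW) 19950 150 = true := by decide +kernel

theorem relsF134 : allF (fixF rowF relW) 20100 150 = true := by decide +kernel

theorem relsF135 : allF (fixF rowF relW) 20250 150 = true := by decide +kernel

theorem relsF136 : allF (fixF rowF relW) 20400 150 = true := by decide +kernel

theorem relsF137 : allF (fixF rowF relW) 20550 150 = true := by decide +kernel

theorem relsF138 : allF (fixF rowF relW) 20700 150 = true := by decide +kernel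

theorem relsF139 : allF (fixF rowF relW) 20850 150 = true := by decide +kernel

theorem relsB9 (c : ℕ) (h0 : 18900 ≤ c) (h1 : c < 21000) : fixF rowF relW c = true := by
  by_cases h126 : c < 19050
  · exact allF_spec _ _ _ relsF126 c (by omega) (by omega)
  by_cases h127 : c < 19200
  · exact allF_spec _ _ _ relsF127 c (by omega) (by omega)
  by_cases h128 : c < 19350
  · exact allF_spec _ _ _ relsF128 c (by omega) (by omega)
  by_cases h129 : c < 19500
  · exact allF_spec _ _ _ relsF129 c (by omega) (by omega)
  by_cases h130 : c < 19650
  · exact allF_spec _ _ _ relsF130 c (by omega) (by omega)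
  by_cases h131 : c < 19800
  · exact allF_spec _ _ _ relsF131 c (by omega) (by omega)
  by_cases h132 : c < 19950
  · exact allF_spec _ _ _ relsF132 c (by omega) (by omega)
  by_cases h133 : c < 20100
  · exact allF_spec _ _ _ relsF133 c (by omega) (by omega)
  by_cases h134 : c < 20250
  · exact allF_spec _ _ _ relsF134 c (by omega) (by omega)
  by_cases h135 : c < 20400
  · exact allF_spec _ _ _ relsF135 c (by omega) (by omega)
  by_cases h136 : c < 20550
  · exact allF_spec _ _ _ relsF136 c (by omega) (by omega)
  by_cases h137 : c < 20700
  · exact allF_spec _ _ _ relsF137 c (by omega) (by omega)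
  by_cases h138 : c < 20850
  · exact allF_spec _ _ _ relsF138 c (by omega) (by omega)
  by_cases h139 : c < 21000
  · exact allF_spec _ _ _ relsF139 c (by omega) (by omega)
  omega

end H29.CosetCert.SuzUData
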